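import Mathlib
import Cfsg.Prelude.Def_Solvable

/-!
# Project FCZ: structure of Frobenius complements (S3359, S4291), conditional on S0690

Interface file: only definitions and package statements (`Prop`s).

* `HubZ` is the statement of S0690 (Zassenhaus: a perfect fixed-point-free automorphism group
  is `SL(2,5)`), at universe 0.
* `IsFC G` is the hypothesis "`G` occurs as a Frobenius complement" of S3359 / S4291.
* `ZSyl N`, `Quot N` are the two conditions on `N` in S4291, verbatim.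
-/

set_option autoImplicit false

namespace Cfsg.Agent.Lib.Helper81.FCZ

universe u

/-- `SL(2,5)`. -/
abbrev Gam : Type := Matrix.SpecialLinearGroup (Fin 2) (ZMod 5)

/-- "`G` occurs as a Frobenius complement" (the hypothesis `hFC` of S3359 / S4291, verbatim). -/
def IsFC (G : Type u) [Group G] : Prop :=
  ∃ (L : Type) (_ : Group L) (_ : Finite L) (H : Subgroup L),
    Cfsg.IsFrobeniusComplement H ∧ Nonempty (G ≃* H)

/-- The hub: the statement of S0690, at universe 0. -/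
def HubZ : Prop :=
  ∀ {K : Type} [Group K] [Finite K] (G : Subgroup (MulAut K)),
    (∀ φ ∈ G, φ ≠ 1 → ∀ k : K, φ k = k → k = 1) → commutator G = ⊤ → G ≠ ⊥ →
    Nonempty (G ≃* Gam)

/-! ## Abstract facts about a Frobenius complement -/

/-- Sylow subgroups are cyclic or generalized quaternion. -/
def FcSyl (G : Type u) [Group G] : Prop :=
  ∀ (p : ℕ) [Fact p.Prime] (P : Sylow p G), IsCyclic (P : Subgroup G) ∨
    ∃ n : ℕ, Nonempty ((P : Subgroup G) ≃* QuaternionGroup (2 ^ n))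

/-- At most one involution. -/
def FcInv (G : Type u) [Group G] : Prop :=
  ∀ t u : G, t ≠ 1 → u ≠ 1 → t * t = 1 → u * u = 1 → t = u

/-- Commuting elements of the same prime order generate the same subgroup. -/
def FcComm (G : Type u) [Group G] : Prop :=
  ∀ (p : ℕ) (x y : G), p.Prime → orderOf x = p → orderOf y = p → x * y = y * x →
    y ∈ Subgroup.zpowers x

/-- Non-trivial perfect subgroups are `SL(2,5)`. -/
def FcPerf (G : Type u) [Group G] : Prop :=
  ∀ S : Subgroup G, S ≠ ⊥ → commutator S = ⊤ → Nonempty (S ≃* Gam)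

/-- All Sylow subgroups of the subgroup `N` are cyclic (as in S3359 / S4291, verbatim). -/
def ZSyl {G : Type u} [Group G] (N : Subgroup G) : Prop :=
  ∀ (p : ℕ) [Fact p.Prime] (P : Sylow p N), IsCyclic P

/-- The Sylow `2`-subgroups of the group `X` are cyclic. -/
def C2 (X : Type u) [Group X] : Prop :=
  ∀ P : Sylow 2 X, IsCyclic (P : Subgroup X)

/-- The quotient condition of S4291, verbatim. -/
def Quot {G : Type u} [Group G] (N : Subgroup G) : Prop :=
  N = ⊤ ∨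
    (∃ f : G →* DihedralGroup 2, Function.Surjective f ∧ f.ker = N) ∨
    (∃ f : G →* alternatingGroup (Fin 4), Function.Surjective f ∧ f.ker = N) ∨
    (∃ f : G →* Equiv.Perm (Fin 4), Function.Surjective f ∧ f.ker = N) ∨
    (∃ f : G →* alternatingGroup (Fin 5), Function.Surjective f ∧ f.ker = N) ∨
    (∃ f : G →* Equiv.Perm (Fin 5), Function.Surjective f ∧ f.ker = N)

/-- The three solvable quotient types, with cyclic kernel. -/
def Q3 (Γ : Type u) [Group Γ] : Prop :=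
  (∃ f : Γ →* DihedralGroup 2, Function.Surjective f ∧ IsCyclic f.ker) ∨
    (∃ f : Γ →* alternatingGroup (Fin 4), Function.Surjective f ∧ IsCyclic f.ker) ∨
    (∃ f : Γ →* Equiv.Perm (Fin 4), Function.Surjective f ∧ IsCyclic f.ker)

/-- `X` has no non-trivial normal subgroup with cyclic Sylow `2`-subgroups, is not commutative,
and its own Sylow `2`-subgroups are not cyclic. -/
def NZ (X : Type) [Group X] : Prop :=
  (∀ K : Subgroup X, K.Normal → C2 K → K = ⊥) ∧ (∃ a b : X, a * b ≠ b * a) ∧ ¬ C2 X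

/-! ## Packages: the Frobenius side -/

/-- [F-SYL] -/
def PkgFSyl : Prop := ∀ {G : Type u} [Group G] [Finite G], IsFC G → FcSyl G

/-- [F-INV] -/
def PkgFInv : Prop := ∀ {G : Type u} [Group G] [Finite G], IsFC G → FcInv G

/-- [F-COMM] -/
def PkgFComm : Prop := ∀ {G : Type u} [Group G] [Finite G], IsFC G → FcComm G

/-- [F-PERF] -/
def PkgFPerf : Prop := HubZ → ∀ {G : Type u} [Group G] [Finite G], IsFC G → FcPerf G

/-! ## Packages: `SL(2,5)` -/

/-- [SL-A5] -/
def PkgSLA5 : Prop :=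
  ∃ π : Gam →* alternatingGroup (Fin 5), Function.Surjective π ∧ π.ker = Subgroup.center Gam

/-- [SL-CEN] -/
def PkgSLCen : Prop := Nat.card (Subgroup.center Gam) = 2

/-- [SL-ORD] -/
def PkgSLOrd : Prop :=
  (∃ s : Gam, orderOf s = 3) ∧ (∃ s : Gam, orderOf s = 4) ∧ (∃ s : Gam, orderOf s = 5)

/-! ## Packages: pure group theory (S3359) -/

/-- [RES] the perfect residual of a non-solvable finite group. -/
def PkgRes : Prop :=
  ∀ {G : Type u} [Group G] [Finite G], ¬ Group.IsSolvable G →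
    ∃ S : Subgroup G, S.Normal ∧ S ≠ ⊥ ∧ commutator S = ⊤

/-- [PSI] the action of `G` on `S / Z(S) = Alt(5)`. -/
def PkgPsi : Prop :=
  PkgSLA5 → ∀ {G : Type u} [Group G] [Finite G] (S : Subgroup G), S.Normal → commutator S = ⊤ →
    Nonempty (S ≃* Gam) →
    ∃ ψ : G →* Equiv.Perm (Fin 5), ψ.ker = Subgroup.centralizer (S : Set G) ∧
      S.map ψ = alternatingGroup (Fin 5)

/-- [CEN] `S ∩ C_G(S) = Z(S)` has order 2. -/
def PkgCen : Prop :=
  PkgSLCen → ∀ {G : Type u} [Group G] (S : Subgroup G), Nonempty (S ≃* Gam) →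
    Nat.card ↥(S ⊓ Subgroup.centralizer (S : Set G)) = 2

/-- [COP] the order of `C_G(S)` is prime to 15 and not divisible by 4. -/
def PkgCop : Prop :=
  PkgSLOrd → ∀ {G : Type u} [Group G] [Finite G] (S : Subgroup G), FcInv G → FcComm G →
    Nonempty (S ≃* Gam) → Nat.card ↥(S ⊓ Subgroup.centralizer (S : Set G)) = 2 →
    (Nat.card ↥(Subgroup.centralizer (S : Set G))).Coprime 15 ∧
      ¬ 4 ∣ Nat.card ↥(Subgroup.centralizer (S : Set G))

/-- [COMPL] a subgroup of order not divisible by 4 has a subgroup of odd order and index ≤ 2. -/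
def PkgCompl : Prop :=
  ∀ {G : Type u} [Group G] [Finite G] (C : Subgroup G), ¬ 4 ∣ Nat.card C →
    ∃ M : Subgroup G, M ≤ C ∧ (Nat.card M).Coprime 2 ∧ M.relIndex C ≤ 2

/-- [IDX] -/
def PkgIdx : Prop :=
  ∀ {G : Type u} [Group G] [Finite G] (S : Subgroup G) (ψ : G →* Equiv.Perm (Fin 5)),
    S.map ψ = alternatingGroup (Fin 5) →
    ((S ⊔ ψ.ker).index = 1 ∨ (S ⊔ ψ.ker).index = 2) ∧
      (ψ.range = alternatingGroup (Fin 5) ∨ ψ.range = ⊤)

/-- [GLUE] -/
def PkgGlue : Prop :=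
  ∀ {G : Type u} [Group G] [Finite G] (S C M : Subgroup G),
    Nat.card ↥(S ⊓ C) = 2 → M ≤ C → (Nat.card M).Coprime 2 → M.relIndex C ≤ 2 →
    S ⊔ M = S ⊔ C ∧ S ⊓ M = ⊥

/-- [Z-OF-C2] in a group with `FcSyl`, a subgroup with cyclic Sylow 2-subgroups has all Sylow
subgroups cyclic. -/
def PkgZofC2 : Prop :=
  ∀ {G : Type u} [Group G] [Finite G] (M : Subgroup G), FcSyl G → C2 M → ZSyl M

/-- [C2-SMALL] -/
def PkgC2Small : Prop :=
  ∀ {G : Type u} [Group G] [Finite G] (M : Subgroup G), ¬ 4 ∣ Nat.card M → C2 M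

/-! ## Packages: S4291, existence -/

/-- [C2-TOP] -/
def PkgC2Top : Prop :=
  ∀ {G : Type u} [Group G] [Finite G], C2 G ↔ C2 (⊤ : Subgroup G)

/-- [RANGE] -/
def PkgRange : Prop :=
  ∀ {G : Type u} [Group G] (ψ : G →* Equiv.Perm (Fin 5)),
    (ψ.range = alternatingGroup (Fin 5) ∨ ψ.range = ⊤) → Quot ψ.ker

/-- [QUAT-V4] -/
def PkgQuatV4 : Prop :=
  ∀ n : ℕ, 1 ≤ n → ∃ f : QuaternionGroup (2 ^ n) →* DihedralGroup 2,
    Function.Surjective f ∧ IsCyclic f.ker

/-- [Q8-CASE] -/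
def PkgQ8Case : Prop :=
  ∀ {Γ : Type u} [Group Γ] [Finite Γ] (Q : Subgroup Γ), Q.Normal →
    (∀ N : Subgroup Γ, N.Normal → IsPGroup 2 N → N ≤ Q) →
    Subgroup.centralizer (Q : Set Γ) ≤ Q → Nonempty (Q ≃* QuaternionGroup 2) →
    (∃ g : Γ, (orderOf g).Coprime 2 ∧ g ≠ 1) →
    (∃ f : Γ →* alternatingGroup (Fin 4), Function.Surjective f ∧ IsCyclic f.ker) ∨
      (∃ f : Γ →* Equiv.Perm (Fin 4), Function.Surjective f ∧ IsCyclic f.ker)

/-- The conclusion of [SOLV-BAR]. -/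
def SolvBar : Prop :=
  ∀ {Γ : Type u} [Group Γ] [Finite Γ], Group.IsSolvable Γ →
    (∀ N : Subgroup Γ, N.Normal → (Nat.card N).Coprime 2 → N = ⊥) →
    ∀ T : Sylow 2 Γ, ¬ IsCyclic (T : Subgroup Γ) →
    (∃ n : ℕ, Nonempty ((T : Subgroup Γ) ≃* QuaternionGroup (2 ^ n))) → Q3 Γ

/-- [SOLV-BAR] -/
def PkgSolvBar : Prop := PkgQuatV4 → PkgQ8Case.{u} → SolvBar.{u}

/-- [SOLV-LIFT] -/
def PkgSolvLift : Prop :=
  SolvBar.{u} → ∀ {G : Type u} [Group G] [Finite G], FcSyl G → Group.IsSolvable G →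
    (∃ T : Sylow 2 G, ¬ IsCyclic (T : Subgroup G)) →
    ∃ N : Subgroup G, N.Normal ∧ ZSyl N ∧ Quot N

/-! ## Packages: S4291, uniqueness -/

/-- [NZ-A4] -/
def PkgNZA4 : Prop := NZ (alternatingGroup (Fin 4))

/-- [NZ-S4] -/
def PkgNZS4 : Prop := NZ (Equiv.Perm (Fin 4))

/-- [NZ-A5] -/
def PkgNZA5 : Prop := NZ (alternatingGroup (Fin 5))

/-- [NZ-S5] -/
def PkgNZS5 : Prop := NZ (Equiv.Perm (Fin 5))

/-- [U-D2] -/
def PkgUD2 : Prop := ¬ C2 (DihedralGroup 2)

/-- [U-SYLIMG] cyclic Sylow 2-subgroups pass to quotients. -/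
def PkgUSylImg : Prop :=
  ∀ {G : Type u} [Group G] [Finite G] {X : Type} [Group X] (f : G →* X),
    Function.Surjective f → C2 G → C2 X

/-- [U-LE] -/
def PkgULe : Prop :=
  ∀ {G : Type u} [Group G] [Finite G] {X : Type} [Group X] (f : G →* X),
    Function.Surjective f → (∀ K : Subgroup X, K.Normal → C2 K → K = ⊥) →
    ∀ N : Subgroup G, N.Normal → C2 N → N ≤ f.ker

/-- [U-DNZ] -/
def PkgUDNZ : Prop :=
  ∀ {G : Type u} [Group G] {X : Type} [Group X] (f₁ : G →* DihedralGroup 2) (f₂ : G →* X),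
    Function.Surjective f₂ → f₁.ker ≤ f₂.ker → ∀ a b : X, a * b = b * a

/-- [U-GEN2] -/
def PkgUGen2 : Prop :=
  ∀ {G : Type u} [Group G] [Finite G] (T : Sylow 2 G) (n : ℕ),
    Nonempty ((T : Subgroup G) ≃* QuaternionGroup (2 ^ n)) →
    ∀ N : Subgroup G, N.Normal → (∀ g : G, g * g ∈ N) → N.index ≤ 4

/-- [U-DD] -/
def PkgUDD : Prop :=
  PkgUGen2.{u} → ∀ {G : Type u} [Group G] [Finite G],
    (∃ T : Sylow 2 G, ∃ n : ℕ, Nonempty ((T : Subgroup G) ≃* QuaternionGroup (2 ^ n))) →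
    ∀ f₁ f₂ : G →* DihedralGroup 2, Function.Surjective f₁ → Function.Surjective f₂ →
      f₁.ker = f₂.ker

end Cfsg.Agent.Lib.Helper81.FCZ
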