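import Cfsg.Agent.Lib.Helper81.FCZ.Asm
import Cfsg.Agent.Lib.Helper81.FCZ.Small
import Cfsg.Agent.Lib.Helper22.FCZ.Compl
import Cfsg.Agent.Lib.Helper25.FCZ.Psi
import Cfsg.Agent.Lib.Helper25.FCZ.Res
import Cfsg.Agent.Lib.Helper35.FCZ.QuatV4
import Cfsg.Agent.Lib.Helper35.FCZ.UDD
import Cfsg.Agent.Lib.Helper35.FCZ.UGen2
import Cfsg.Agent.Lib.Helper35.FCZ.ZofC2
import Cfsg.Agent.Lib.Helper38.FCZ.SLA5
import Cfsg.Agent.Lib.Helper38.FCZ.SLCen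
import Cfsg.Agent.Lib.Helper62.FCZ.NZA4
import Cfsg.Agent.Lib.Helper62.FCZ.NZS4
import Cfsg.Agent.Lib.Helper62.FCZ.SLOrd
import Cfsg.Agent.Lib.Helper71.FCZ.FPerf
import Cfsg.Agent.Lib.Helper74.FCZ.NZA5
import Cfsg.Agent.Lib.Helper74.FCZ.NZS5
import Cfsg.Agent.Lib.Helper76.FCZ.Q8Case
import Cfsg.Agent.Lib.Helper76.FCZ.SolvBar
import Cfsg.Agent.Lib.Helper76.FCZ.SolvLift
import Cfsg.Agent.Lib.Helper82.FCZ.FComm
import Cfsg.Agent.Lib.Helper82.FCZ.FInv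
import Cfsg.Agent.Lib.Helper82.FCZ.FSyl
import Cfsg.Agent.Lib.Helper85.FCZ.C2Small
import Cfsg.Agent.Lib.Helper85.FCZ.USyl
import Cfsg.Agent.Lib.Helper94.FCZ.Cop
import Cfsg.Agent.Lib.Helper94.FCZ.Glue
import Cfsg.Agent.Lib.Helper94.FCZ.Idx

/-!
# Project FCZ, all packages composed

`s3359_hub` and `s4291_hub` are the statements S3359 and S4291 with the single remaining
hypothesis `hub : HubZ`, which is literally the statement S0690 (Zassenhaus: a perfect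
Frobenius complement is trivial or `SL(2,5)`).
-/

namespace Cfsg.Agent.Lib.Helper81.FCZ

universe u

/-- S3359 from the hub S0690. -/
theorem s3359_hub (hub : HubZ) {G : Type u} [Group G] [Finite G] (hns : ¬ Group.IsSolvable G)
    (hFC : ∃ (L : Type) (_ : Group L) (_ : Finite L) (H : Subgroup L),
      Cfsg.IsFrobeniusComplement H ∧ Nonempty (G ≃* H)) :
    ∃ G₀ : Subgroup G, G₀.Normal ∧ (G₀.index = 1 ∨ G₀.index = 2) ∧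
      ∃ S M : Subgroup G, S ⊔ M = G₀ ∧ S ⊓ M = ⊥ ∧ (∀ s ∈ S, ∀ x ∈ M, s * x = x * s) ∧
        Nonempty (S ≃* Matrix.SpecialLinearGroup (Fin 2) (ZMod 5)) ∧
        (∀ (p : ℕ) [Fact p.Prime] (P : Sylow p M), IsCyclic P) ∧ (Nat.card M).Coprime 30 :=
  s3359_of hub Cfsg.Agent.Lib.Helper82.FCZ.pkgFSyl Cfsg.Agent.Lib.Helper82.FCZ.pkgFInv
    Cfsg.Agent.Lib.Helper82.FCZ.pkgFComm Cfsg.Agent.Lib.Helper71.FCZ.pkgFPerf
    Cfsg.Agent.Lib.Helper38.FCZ.pkgSLA5 Cfsg.Agent.Lib.Helper38.FCZ.pkgSLCen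
    Cfsg.Agent.Lib.Helper62.FCZ.pkgSLOrd Cfsg.Agent.Lib.Helper25.FCZ.pkgRes
    Cfsg.Agent.Lib.Helper25.FCZ.pkgPsi Cfsg.Agent.Lib.Helper38.FCZ.pkgCen
    Cfsg.Agent.Lib.Helper94.FCZ.pkgCop Cfsg.Agent.Lib.Helper22.FCZ.pkgCompl
    Cfsg.Agent.Lib.Helper94.FCZ.pkgIdx Cfsg.Agent.Lib.Helper94.FCZ.pkgGlue
    Cfsg.Agent.Lib.Helper35.FCZ.pkgZofC2 Cfsg.Agent.Lib.Helper85.FCZ.pkgC2Small hns hFC

/-- S4291 from the hub S0690. -/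
theorem s4291_hub (hub : HubZ) {G : Type u} [Group G] [Finite G]
    (hFC : (∃ (L : Type) (_ : Group L) (_ : Finite L) (H : Subgroup L),
      Cfsg.IsFrobeniusComplement H ∧ Nonempty (G ≃* H))) :
    ∃! N : Subgroup G, N.Normal ∧ (∀ (p : ℕ) [Fact p.Prime] (P : Sylow p N), IsCyclic P) ∧
      (N = ⊤ ∨
        (∃ f : G →* DihedralGroup 2, Function.Surjective f ∧ f.ker = N) ∨
        (∃ f : G →* alternatingGroup (Fin 4), Function.Surjective f ∧ f.ker = N) ∨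
        (∃ f : G →* Equiv.Perm (Fin 4), Function.Surjective f ∧ f.ker = N) ∨
        (∃ f : G →* alternatingGroup (Fin 5), Function.Surjective f ∧ f.ker = N) ∨
        (∃ f : G →* Equiv.Perm (Fin 5), Function.Surjective f ∧ f.ker = N)) :=
  s4291_of hub Cfsg.Agent.Lib.Helper82.FCZ.pkgFSyl Cfsg.Agent.Lib.Helper82.FCZ.pkgFInv
    Cfsg.Agent.Lib.Helper82.FCZ.pkgFComm Cfsg.Agent.Lib.Helper71.FCZ.pkgFPerf
    Cfsg.Agent.Lib.Helper38.FCZ.pkgSLA5 Cfsg.Agent.Lib.Helper38.FCZ.pkgSLCen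
    Cfsg.Agent.Lib.Helper62.FCZ.pkgSLOrd Cfsg.Agent.Lib.Helper25.FCZ.pkgRes
    Cfsg.Agent.Lib.Helper25.FCZ.pkgPsi Cfsg.Agent.Lib.Helper38.FCZ.pkgCen
    Cfsg.Agent.Lib.Helper94.FCZ.pkgCop Cfsg.Agent.Lib.Helper94.FCZ.pkgIdx
    Cfsg.Agent.Lib.Helper35.FCZ.pkgZofC2 Cfsg.Agent.Lib.Helper85.FCZ.pkgC2Small
    pkgC2Top pkgRange
    (Cfsg.Agent.Lib.Helper76.FCZ.pkgSolvBar Cfsg.Agent.Lib.Helper35.FCZ.pkgQuatV4
      Cfsg.Agent.Lib.Helper76.FCZ.pkgQ8Case)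
    Cfsg.Agent.Lib.Helper76.FCZ.pkgSolvLift Cfsg.Agent.Lib.Helper62.FCZ.pkgNZA4
    Cfsg.Agent.Lib.Helper62.FCZ.pkgNZS4 Cfsg.Agent.Lib.Helper74.FCZ.pkgNZA5
    Cfsg.Agent.Lib.Helper74.FCZ.pkgNZS5 pkgUD2 Cfsg.Agent.Lib.Helper85.FCZ.pkgUSylImg
    Cfsg.Agent.Lib.Helper85.FCZ.pkgULe Cfsg.Agent.Lib.Helper85.FCZ.pkgUDNZ
    Cfsg.Agent.Lib.Helper35.FCZ.pkgUGen2 Cfsg.Agent.Lib.Helper35.FCZ.pkgUDD hFC

end Cfsg.Agent.Lib.Helper81.FCZ
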